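import Cfsg.Agent.H50.RG.LStmts

/-!
# Restrictions and sections of a linear automorphism (helper343, for S5714, task RG-L14)

* `rs y Y h` : the restriction of `y` to the invariant subspace `Y`;
* `qs` : the automorphism induced on `B / A`, `A ≤ B` invariant;
* `exists_sing` : the vectors with `q = 0` in a subspace with `B = 0`.
-/

set_option autoImplicit false
set_option linter.unusedSectionVars false
set_option linter.unusedVariables false

namespace Cfsg.Agent.H343.RG

open Module Cfsg.Agent.H847.Bs Cfsg.Agent.H50.RG Cfsg.Agent.LieClassical.OrthCore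
open Cfsg.Agent.H440.Bs (perp mem_perp mem_perp' finrank_perp)

section Res

variable {F V : Type} [Field F] [AddCommGroup V] [Module F V] [Module.Finite F V]

/-- restriction to an invariant subspace -/
noncomputable def rs (y : V ≃ₗ[F] V) (Y : Submodule F V) (h : Inv y Y) : Y ≃ₗ[F] Y :=
  LinearEquiv.ofInjectiveEndo ((y : V →ₗ[F] V).restrict h) (by
    intro a b hab
    apply Subtype.ext
    exact y.injective (congrArg Subtype.val hab))

variable {y : V ≃ₗ[F] V} {Y : Submodule F V} (h : Inv y Y)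

theorem rs_apply (a : Y) : ((rs y Y h a : Y) : V) = y a := rfl

theorem rs_pow (k : ℕ) (a : Y) : (((rs y Y h ^ k) a : Y) : V) = (y ^ k) a := by
  induction k generalizing a with
  | zero => rfl
  | succ k ih =>
    rw [pow_succ, pow_succ]
    show (((rs y Y h ^ k) (rs y Y h a) : Y) : V) = (y ^ k) (y a)
    rw [ih]
    rfl

theorem Inv.pow {z : V ≃ₗ[F] V} {W : Submodule F V} (h : Inv z W) (k : ℕ) : Inv (z ^ k) W := by
  induction k with
  | zero => exact fun v hv => hv
  | succ k ih =>
    intro v hv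
    rw [pow_succ]
    exact ih _ (h v hv)

theorem mem_of_apply_mem (h : Inv y Y) {v : V} (hv : y v ∈ Y) : v ∈ Y := by
  obtain ⟨a, ha⟩ := (rs y Y h).surjective ⟨y v, hv⟩
  have h1 : y a = y v := congrArg Subtype.val ha
  rw [← y.injective h1]
  exact a.2

/-- irreducibility of the restriction -/
theorem irr_rs (hi : Irr y Y) : Irr (rs y Y hi.inv) ⊤ := by
  refine ⟨fun _ _ => Submodule.mem_top, ?_, fun W _ hW => ?_⟩
  · intro h0
    apply hi.ne_bot
    rw [Submodule.eq_bot_iff]
    intro v hv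
    have : (⟨v, hv⟩ : Y) ∈ (⊤ : Submodule F Y) := Submodule.mem_top
    rw [h0, Submodule.mem_bot] at this
    exact congrArg Subtype.val this
  · rcases hi.min (W.map Y.subtype) (Submodule.map_subtype_le _ _) (by
      rintro _ ⟨w, hw, rfl⟩
      exact ⟨_, hW w hw, rfl⟩) with h1 | h1
    · left
      rw [Submodule.eq_bot_iff]
      intro w hw
      have : (w : V) ∈ W.map Y.subtype := ⟨w, hw, rfl⟩
      rw [h1, Submodule.mem_bot] at this
      exact Subtype.ext this
    · right
      rw [eq_top_iff]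
      rintro w -
      have : (w : V) ∈ W.map Y.subtype := by rw [h1]; exact w.2
      obtain ⟨w', hw', h2⟩ := this
      rw [← Subtype.ext h2]
      exact hw'

/-- from the restriction of a power back to `V` -/
theorem min_of_irr {z : Y ≃ₗ[F] Y} {w : V ≃ₗ[F] V} (hz : ∀ a : Y, ((z a : Y) : V) = w a) (hi : Irr z ⊤) :
    ∀ W ≤ Y, Inv w W → W = ⊥ ∨ W = Y := by
  intro W hW hi2
  rcases hi.min (W.comap Y.subtype) le_top (by
    intro a ha
    show ((z a : Y) : V) ∈ W
    rw [hz]
    exact hi2 _ ha) with h1 | h1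
  · left
    rw [Submodule.eq_bot_iff]
    intro v hv
    have : (⟨v, hW hv⟩ : Y) ∈ W.comap Y.subtype := hv
    rw [h1, Submodule.mem_bot] at this
    exact congrArg Subtype.val this
  · right
    refine le_antisymm hW fun v hv => ?_
    have : (⟨v, hv⟩ : Y) ∈ W.comap Y.subtype := by rw [h1]; exact Submodule.mem_top
    exact this

end Res

section Quot

variable {F V : Type} [Field F] [AddCommGroup V] [Module F V] [Module.Finite F V] {y : V ≃ₗ[F] V}
  {A B : Submodule F V}

/-- the quotient `B / A` -/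
abbrev QQ (A B : Submodule F V) : Type := ↥B ⧸ A.submoduleOf B

theorem le_comap (hA : Inv y A) (hB : Inv y B) :
    A.submoduleOf B ≤ (A.submoduleOf B).comap (rs y B hB : B →ₗ[F] B) := fun b hb => hA _ hb

/-- the automorphism induced on `B / A` -/
noncomputable def qs (hA : Inv y A) (hB : Inv y B) : QQ A B ≃ₗ[F] QQ A B :=
  LinearEquiv.ofInjectiveEndo (Submodule.mapQ _ _ (rs y B hB : B →ₗ[F] B) (le_comap hA hB)) (by
    rw [← LinearMap.ker_eq_bot, LinearMap.ker_eq_bot']
    intro x hx
    obtain ⟨b, rfl⟩ := Submodule.mkQ_surjective _ x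
    rw [Submodule.mkQ_apply, Submodule.mapQ_apply, Submodule.Quotient.mk_eq_zero] at hx
    rw [Submodule.mkQ_apply, Submodule.Quotient.mk_eq_zero]
    exact mem_of_apply_mem hA hx)

theorem qs_mk (hA : Inv y A) (hB : Inv y B) (b : B) :
    qs hA hB (Submodule.Quotient.mk b : QQ A B) = Submodule.Quotient.mk (rs y B hB b) := rfl

theorem qs_pow (hA : Inv y A) (hB : Inv y B) (k : ℕ) (b : B) :
    (qs hA hB ^ k) (Submodule.Quotient.mk b : QQ A B) = Submodule.Quotient.mk ((rs y B hB ^ k) b) := by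
  induction k generalizing b with
  | zero => rfl
  | succ k ih =>
    rw [pow_succ, pow_succ]
    show (qs hA hB ^ k) (qs hA hB (Submodule.Quotient.mk b)) = _
    rw [qs_mk, ih]
    rfl

theorem irr_qs (hA : Inv y A) (hB : Inv y B) (hAB : A < B)
    (hm : ∀ C, Inv y C → A ≤ C → C ≤ B → C = A ∨ C = B) : Irr (qs hA hB) ⊤ := by
  refine ⟨fun _ _ => Submodule.mem_top, ?_, fun W _ hW => ?_⟩
  · intro h0
    apply hAB.not_ge
    intro b hb
    have : (Submodule.Quotient.mk (⟨b, hb⟩ : B) : QQ A B) ∈ (⊤ : Submodule F (QQ A B)) := Submodule.mem_top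
    rw [h0, Submodule.mem_bot, Submodule.Quotient.mk_eq_zero] at this
    exact this
  · have hmem : ∀ v : V, v ∈ (W.comap (A.submoduleOf B).mkQ).map B.subtype ↔
        ∃ hv : v ∈ B, (Submodule.Quotient.mk (⟨v, hv⟩ : B) : QQ A B) ∈ W := by
      intro v
      constructor
      · rintro ⟨b, hb, rfl⟩
        exact ⟨b.2, hb⟩
      · rintro ⟨hv, h1⟩
        exact ⟨⟨v, hv⟩, h1, rfl⟩
    rcases hm ((W.comap (A.submoduleOf B).mkQ).map B.subtype) (by
      intro v hv
      obtain ⟨h1, h2⟩ := (hmem v).1 hv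
      refine (hmem _).2 ⟨hB v h1, ?_⟩
      exact hW _ h2) (by
      intro a ha
      refine (hmem a).2 ⟨hAB.le ha, ?_⟩
      have : (Submodule.Quotient.mk (⟨a, hAB.le ha⟩ : B) : QQ A B) = 0 := by
        rw [Submodule.Quotient.mk_eq_zero]
        exact ha
      rw [this]
      exact zero_mem _) (Submodule.map_subtype_le _ _) with h1 | h1
    · left
      rw [Submodule.eq_bot_iff]
      intro x hx
      obtain ⟨⟨b, hb⟩, rfl⟩ := Submodule.mkQ_surjective _ x
      have h2 : b ∈ (W.comap (A.submoduleOf B).mkQ).map B.subtype := (hmem b).2 ⟨hb, hx⟩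
      rw [h1] at h2
      rw [Submodule.mkQ_apply, Submodule.Quotient.mk_eq_zero]
      exact h2
    · right
      rw [eq_top_iff]
      rintro x -
      obtain ⟨⟨b, hb⟩, rfl⟩ := Submodule.mkQ_surjective _ x
      have h2 : b ∈ (W.comap (A.submoduleOf B).mkQ).map B.subtype := by rw [h1]; exact hb
      exact ((hmem b).1 h2).2

theorem finrank_QQ (hAB : A ≤ B) : finrank F (QQ A B) + finrank F A = finrank F B := by
  rw [← (Submodule.submoduleOfEquivOfLe hAB).finrank_eq]
  exact Submodule.finrank_quotient_add_finrank _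

/-- minimal overspaces -/
theorem exists_min {P : Submodule F V} (hP : Inv y P) (hA : Inv y A) (hAP : A < P) :
    ∃ B, Inv y B ∧ A < B ∧ B ≤ P ∧ ∀ C, Inv y C → A ≤ C → C ≤ B → C = A ∨ C = B := by
  induction hn : finrank F P using Nat.strong_induction_on generalizing P with
  | _ n ih =>
    by_cases h : ∀ C, Inv y C → A ≤ C → C ≤ P → C = A ∨ C = P
    · exact ⟨P, hP, hAP, le_rfl, h⟩
    · push Not at h
      obtain ⟨C, hC, hAC, hCP, h1, h2⟩ := h
      obtain ⟨B, h3, h4, h5, h6⟩ := ih _ (hn ▸ Submodule.finrank_lt_finrank_of_lt (lt_of_le_of_ne hCP h2)) hC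
        (lt_of_le_of_ne hAC (Ne.symm h1)) rfl
      exact ⟨B, h3, h4, h5.trans hCP, h6⟩

end Quot

section Sing

variable {F V : Type} [Field F] [Finite F] [AddCommGroup V] [Module F V] [Module.Finite F V]

/-- the vectors with `q = 0` in a totally isotropic subspace -/
theorem exists_sing {Φ : Frm F V} {e : ℕ} (hΦ : Cls Φ e) {Y : Submodule F V} (hB : ∀ x ∈ Y, ∀ w ∈ Y, Φ.B x w = 0) :
    ∃ S ≤ Y, (∀ x, x ∈ S ↔ x ∈ Y ∧ Φ.q x = 0) ∧ finrank F Y ≤ finrank F S + 1 := by
  have hq0 : (∀ x, Φ.q x = 0) → ∃ S ≤ Y, (∀ x, x ∈ S ↔ x ∈ Y ∧ Φ.q x = 0) ∧ finrank F Y ≤ finrank F S + 1 :=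
    fun h => ⟨Y, le_rfl, fun x => ⟨fun hx => ⟨hx, h x⟩, fun hx => hx.1⟩, Nat.le_succ _⟩
  rcases hΦ.2.2 with ⟨h, -⟩ | ⟨r, h, -⟩ | ⟨Q, rfl, -⟩
  · exact hq0 h.q
  · exact hq0 h.q
  · have hadd : ∀ x ∈ Y, ∀ w ∈ Y, Q (x + w) = Q x + Q w := fun x hx w hw => (frmQ Q).q_add x w (hB x hx w hw)
    let S : Submodule F V :=
      { carrier := {x | x ∈ Y ∧ Q x = 0}
        add_mem' := fun {x w} hx hw => ⟨add_mem hx.1 hw.1, by rw [hadd x hx.1 w hw.1, hx.2, hw.2, add_zero]⟩
        zero_mem' := ⟨zero_mem _, QuadraticMap.map_zero Q⟩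
        smul_mem' := fun c x hx => ⟨Y.smul_mem c hx.1, by rw [QuadraticMap.map_smul, hx.2, smul_zero]⟩ }
    have hmem : ∀ x, x ∈ S ↔ x ∈ Y ∧ Q x = 0 := fun x => Iff.rfl
    refine ⟨S, fun x hx => hx.1, hmem, ?_⟩
    by_cases hS : ∀ x ∈ Y, Q x = 0
    · exact (Submodule.finrank_mono fun x hx => (hmem x).2 ⟨hx, hS x hx⟩).trans (Nat.le_succ _)
    · push Not at hS
      obtain ⟨x, hx, hx0⟩ := hS
      have h2 : ringChar F = 2 := by
        by_contra hc
        apply hx0
        have h3 : (2 : F) ≠ 0 := Ring.two_ne_zero hc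
        have h4 : QuadraticMap.polar Q x x = 0 := hB x hx x hx
        rw [QuadraticMap.polar_self, two_smul, ← two_mul] at h4
        exact (mul_eq_zero.1 h4).resolve_left h3
      have : Fintype F := Fintype.ofFinite F
      have hle : Y ≤ S ⊔ Submodule.span F {x} := by
        intro v hv
        obtain ⟨c, hc⟩ := FiniteField.isSquare_of_char_two h2 (-(Q v) * (Q x)⁻¹)
        have h5 : v + c • x ∈ S := by
          refine (hmem _).2 ⟨add_mem hv (Y.smul_mem c hx), ?_⟩
          rw [hadd v hv _ (Y.smul_mem c hx), QuadraticMap.map_smul, smul_eq_mul, ← hc, mul_assoc,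
            inv_mul_cancel₀ hx0, mul_one, add_neg_cancel]
        have h6 : v = (v + c • x) + (-c) • x := by rw [neg_smul, add_neg_cancel_right]
        rw [h6]
        exact Submodule.add_mem_sup h5 (Submodule.smul_mem _ _ (Submodule.mem_span_singleton_self x))
      calc finrank F Y ≤ finrank F (S ⊔ Submodule.span F {x} : Submodule F V) := Submodule.finrank_mono hle
        _ ≤ finrank F S + finrank F (Submodule.span F {x}) := Submodule.finrank_add_le_finrank_add_finrank _ _
        _ ≤ finrank F S + 1 := by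
          have := finrank_span_singleton (K := F) (v := x) (by
            rintro rfl
            exact hx0 (QuadraticMap.map_zero Q))
          omega

end Sing

end Cfsg.Agent.H343.RG
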